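import Groth.Agent.H17.KoszCancel.Conormal
import Groth.Agent.H17.RegDescent.Scheme
import Groth.Agent.H17.KoszComp.Scheme
import Mathlib

/-!
# Cancellation of Koszul-regular immersions with split conormal sequence
-/

set_option autoImplicit false
set_option linter.style.haveILetI false
universe u

open CategoryTheory CategoryTheory.Limits AlgebraicGeometry TopologicalSpace
open Groth.Agent.H8Props.PseudoCoh

namespace Groth.Agent.H17.KoszCancel

open RegDescent

/-- Converse to concatenation of Koszul-regular sequences. -/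
theorem isKoszulRegularSeq_of_append {A B : Type u} [CommRing A] [CommRing B] (q : A →+* B)
    (hq : Function.Surjective q) {l : List A} (hl : LCI.IsKoszulRegularSeq A l)
    (hker : RingHom.ker q = Ideal.ofList l) {gs : List A} (hg : LCI.IsKoszulRegularSeq A (gs ++ l)) :
    LCI.IsKoszulRegularSeq B (gs.map q) := by
  have hc : ∀ gs : List A, Nonempty (KoszComp.Cmp q (Koszul.koszul A (gs ++ l)) (Koszul.koszul B (gs.map q))) := by
    intro gs
    induction gs with
    | nil => exact KoszComp.exists_base q hq hl hker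
    | cons g gs ih => exact KoszComp.exists_cons q g ih.some
  obtain ⟨c⟩ := hc gs
  refine (H16Derived.KoszulPow.reg_iff _).1 fun h i j hh hj hi x' hx' => ?_
  obtain ⟨x, rfl⟩ := c.surj i x'
  obtain ⟨y, hy0, hy⟩ := c.ker i j (j + 1) ((Koszul.koszul A (gs ++ l)).d i j x) hj rfl
    (by rw [c.comm i j x hj, hx'])
    (congrArg (fun φ => φ.hom x) ((Koszul.koszul A (gs ++ l)).d_comp_d i j (j + 1)))
  obtain ⟨w, hw⟩ := (H16Derived.KoszulPow.reg_iff _).2 hg h i j hh hj hi (x - y) (by rw [map_sub, hy, sub_self])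
  refine ⟨c.π h w, ?_⟩
  rw [← c.comm h i w hh, hw, map_sub, hy0, sub_zero]

variable {X Y Z : Scheme.{u}}

/-- Lists generating an ideal at a point generate it nearby. -/
theorem exists_basicOpen_generate (U : X.affineOpens) (x : X) (hx : x ∈ U.1) (I : Ideal Γ(X, U.1))
    (hI : I.FG) (l : List Γ(X, U.1)) (hl : Ideal.ofList l ≤ I)
    (h : I.map (X.presheaf.germ U.1 x hx).hom = Ideal.ofList (l.map (X.presheaf.germ U.1 x hx).hom)) :
    ∃ a : Γ(X, U.1), x ∈ X.basicOpen a ∧
      I.map (X.presheaf.map (homOfLE (X.basicOpen_le a)).op).hom =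
        Ideal.ofList (l.map (X.presheaf.map (homOfLE (X.basicOpen_le a)).op).hom) := by
  letI : Algebra Γ(X, U.1) (X.presheaf.stalk x) := (X.presheaf.germ U.1 x hx).hom.toAlgebra
  haveI : IsLocalization.AtPrime (X.presheaf.stalk x) (U.2.primeIdealOf ⟨x, hx⟩).asIdeal :=
    U.2.isLocalization_stalk ⟨x, hx⟩
  obtain ⟨s, hs⟩ := hI
  have hpt : ∀ y : s, ∃ c ∈ (U.2.primeIdealOf ⟨x, hx⟩).asIdeal.primeCompl, c * (y : Γ(X, U.1)) ∈ Ideal.ofList l := by
    intro y
    refine (IsLocalization.algebraMap_mem_map_algebraMap_iff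
      (U.2.primeIdealOf ⟨x, hx⟩).asIdeal.primeCompl (X.presheaf.stalk x) _ _).1 ?_
    rw [Ideal.map_ofList]
    exact h.le (Ideal.mem_map_of_mem _ (hs ▸ Ideal.subset_span y.2))
  choose c hc hcy using hpt
  let a : Γ(X, U.1) := ∏ y : s, c y
  have hae : a ∈ (U.2.primeIdealOf ⟨x, hx⟩).asIdeal.primeCompl := Submonoid.prod_mem _ fun y _ => hc y
  refine ⟨a, ?_, le_antisymm ?_ ?_⟩
  · rw [X.mem_basicOpen a x hx]
    exact IsLocalization.map_units (M := (U.2.primeIdealOf ⟨x, hx⟩).asIdeal.primeCompl)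
      (X.presheaf.stalk x) ⟨a, hae⟩
  · rw [Ideal.map_le_iff_le_comap, ← hs]
    refine Ideal.span_le.2 fun y hy => ?_
    have hu : IsUnit ((X.presheaf.map (homOfLE (X.basicOpen_le a)).op).hom a) :=
      RingedSpace.isUnit_res_basicOpen _ a
    rw [SetLike.mem_coe, Ideal.mem_comap, ← Ideal.unit_mul_mem_iff_mem _ hu, ← map_mul, ← Ideal.map_ofList]
    refine Ideal.mem_map_of_mem _ ?_
    obtain ⟨r, hr⟩ := Finset.dvd_prod_of_mem c (Finset.mem_univ (⟨y, hy⟩ : s))
    rw [show a = c ⟨y, hy⟩ * r from hr, mul_comm (c _), mul_assoc]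
    exact Ideal.mul_mem_left _ _ (hcy ⟨y, hy⟩)
  · rw [← Ideal.map_ofList]; exact Ideal.map_mono hl

/-- A minimal complement of an irredundant list of equations, with a transversality condition. -/
theorem irred_append {R : Type u} [CommRing R] [IsLocalRing R] (g f : List R) (hf : Irred f)
    (H : ∀ w ∈ Ideal.ofList f, w ∈ IsLocalRing.maximalIdeal R * Ideal.ofList (g ++ f) →
      w ∈ IsLocalRing.maximalIdeal R * Ideal.ofList f)
    (hdrop : ∀ l₁ b l₂, g = l₁ ++ b :: l₂ → b ∉ Ideal.ofList (l₁ ++ l₂ ++ f)) : Irred (g ++ f) := by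
  have key : ∀ l a m, f = l ++ a :: m → a ∉ Ideal.ofList ((l ++ m) ++ g) := by
    intro l a m hfd ha
    rcases mem_sup_smul_maximal g (l ++ m) a ha with ⟨l₁, b, l₂, hg, c, y, hc, hy, hay⟩ | ha'
    · refine hdrop l₁ b l₂ hg ?_
      obtain ⟨u, rfl⟩ := hc
      rw [show b = (↑u⁻¹ : R) * a + -((↑u⁻¹ : R) * y) by rw [hay, mul_add, ← mul_assoc, u.inv_mul, one_mul]; ring]
      refine add_mem (Ideal.mul_mem_left _ _ (Ideal.subset_span (by simp [hfd]))) (neg_mem (Ideal.mul_mem_left _ _ ?_))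
      refine Ideal.span_mono ?_ hy
      intro w hw
      rw [hfd]
      simp only [Set.mem_ofPred_eq, List.mem_append, List.mem_cons] at hw ⊢
      tauto
    · obtain ⟨s, hs, w, hw, hsw⟩ := Submodule.mem_sup.1 ha'
      have hle : Ideal.ofList (l ++ m) ≤ Ideal.ofList f := Ideal.span_mono fun b hb => by
        rw [hfd]
        simp only [Set.mem_ofPred_eq, List.mem_append, List.mem_cons] at hb ⊢
        tauto
      have haf : a ∈ Ideal.ofList f := Ideal.subset_span (by simp [hfd])
      have hwJ : w ∈ Ideal.ofList f := by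
        rw [← add_sub_cancel_left s w, hsw]; exact sub_mem haf (hle hs)
      have hwm := H w hwJ (Ideal.mul_mono_right (by rw [Ideal.ofList_append]; exact le_sup_left) hw)
      rw [hfd, ofList_perm List.perm_middle, Ideal.ofList_cons, Ideal.mul_sup] at hwm
      obtain ⟨w₁, hw₁, w₂, hw₂, rfl⟩ := Submodule.mem_sup.1 hwm
      obtain ⟨c, hc, rfl⟩ := Ideal.mem_mul_span_singleton.1 hw₁
      obtain ⟨u, hu⟩ := IsLocalRing.isUnit_one_sub_self_of_mem_nonunits c hc
      refine hf l a m hfd ?_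
      rw [show a = (↑u⁻¹ : R) * (s + w₂) by
        rw [show s + w₂ = (1 - c) * a by
            rw [sub_mul, one_mul, eq_sub_iff_add_eq, add_assoc, add_comm w₂]; exact hsw,
          ← hu, ← mul_assoc, u.inv_mul, one_mul]]
      exact Ideal.mul_mem_left _ _ (add_mem hs (Ideal.mul_le_right hw₂))
  intro l a m heq ha
  rcases List.append_eq_append_iff.1 heq with ⟨as, h1, h2⟩ | ⟨bs, h1, h2⟩
  · subst h1
    refine key as a m h2 ?_
    rw [ofList_perm List.perm_append_comm]
    simpa [List.append_assoc] using ha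
  · cases bs with
    | nil =>
      refine key [] a m (by simpa using h2.symm) ?_
      rw [ofList_perm List.perm_append_comm]
      rw [List.append_nil] at h1
      subst h1
      simpa using ha
    | cons b bs =>
      rw [List.cons_append, List.cons.injEq] at h2
      obtain ⟨rfl, rfl⟩ := h2
      exact hdrop l a bs h1 (by rwa [List.append_assoc])

theorem cancel (i : Y ⟶ X) [IsClosedImmersion i] (j : Z ⟶ Y) [IsClosedImmersion j]
    (hi : RegImm.IsRegularImmersion .koszul i) (hij : RegImm.IsRegularImmersion .koszul (j ≫ i))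
    (φ₁ : (Scheme.Modules.pullback j).obj (Omega.conormal i) ⟶ Omega.conormal (j ≫ i))
    (hφ₁ : OmegaSh.IsConormalMap (j ≫ i) i (𝟙 X) j φ₁)
    (hsplit : ∀ z : Z, ∃ (U : Z.Opens) (ρ : (Scheme.Modules.restrictFunctor U.ι).obj (Omega.conormal (j ≫ i)) ⟶
        (Scheme.Modules.restrictFunctor U.ι).obj ((Scheme.Modules.pullback j).obj (Omega.conormal i))),
        z ∈ U ∧ (Scheme.Modules.restrictFunctor U.ι).map φ₁ ≫ ρ = 𝟙 _) :
    RegImm.IsRegularImmersion .koszul j := by
  classical
  have hk : RegImm.Kind.koszul ≠ RegImm.Kind.regular := by decide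
  refine ⟨inferInstance, fun z => ?_⟩
  -- one affine open with both charts
  obtain ⟨U₁, hzU₁, hcl₁, f₁, hf₁, hker₁⟩ := hi.2 (j z)
  obtain ⟨U, hzU, hUle, hclc, rs, hrs, hkerc⟩ := exists_chart_le hk (j ≫ i) z (hij.2 z) U₁.1 hzU₁
  obtain ⟨hcli, hf, hkeri⟩ := KoszComp.chart_restrict i U₁ U hUle hcl₁ hf₁ hker₁
  let f : List Γ(X, U.1) := f₁.map (X.presheaf.map (homOfLE hUle).op).hom
  let I : Ideal Γ(X, U.1) := RingHom.ker (i.app U.1).hom
  let K : Ideal Γ(X, U.1) := RingHom.ker ((j ≫ i).app U.1).hom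
  have hIK : I ≤ K := fun a (ha : (i.app U.1).hom a = 0) => by
    show ((j ≫ i).app U.1).hom a = 0
    rw [Scheme.Hom.comp_app]
    show (j.app _).hom ((i.app U.1).hom a) = 0
    rw [ha, map_zero]
  let γ := (X.presheaf.germ U.1 (i (j z)) hzU).hom
  have hJst : RingHom.ker (i.stalkMap (j z)).hom = Ideal.ofList (f.map γ) := by
    rw [H29Slice.ker_stalkMap_of_restrict i U hcli (j z) hzU, show RingHom.ker (i.app U.1).hom = _ from hkeri,
      Ideal.map_ofList]
  have hKst : RingHom.ker ((j ≫ i).stalkMap z).hom = K.map γ :=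
    H29Slice.ker_stalkMap_of_restrict (j ≫ i) U hclc z hzU
  have hcomap : (RingHom.ker (j.stalkMap z).hom).comap (i.stalkMap (j z)).hom = K.map γ := by
    rw [← hKst, RingHom.comap_ker, Scheme.Hom.stalkMap_comp]
    rfl
  have hKγ : Ideal.ofList (rs.map γ) = K.map γ := by
    rw [show K = _ from hkerc, Ideal.map_ofList]
  letI : Algebra Γ(X, U.1) (X.presheaf.stalk (i (j z))) := γ.toAlgebra
  haveI : Module.Flat Γ(X, U.1) (X.presheaf.stalk (i (j z))) := flat_germ U _ hzU
  have hfirr : Irred (f.map γ) := irred_of_quasi (quasi_of_seq hk (seq_flat' hk _ hf)) (by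
    change Ideal.ofList (f.map γ) ≠ ⊤
    rw [← hJst]; exact RingHom.ker_ne_top _)
  have hKne : K.map γ ≠ ⊤ := by rw [← hKst]; exact RingHom.ker_ne_top _
  have hrsirr : Irred (rs.map γ) := irred_of_quasi (quasi_of_seq hk (seq_flat' hk _ hrs)) (by
    change Ideal.ofList (rs.map γ) ≠ ⊤
    rw [hKγ]; exact hKne)
  -- a minimal complement of `f`
  have hfK : Ideal.ofList (f.map γ) ≤ K.map γ := by
    rw [← Ideal.map_ofList]
    exact Ideal.map_mono ((le_of_eq hkeri.symm).trans hIK)
  have hex : ∃ n, ∃ g : List Γ(X, U.1), g.length = n ∧ (∀ b ∈ g, b ∈ K) ∧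
      Ideal.ofList (g.map γ ++ f.map γ) = K.map γ := by
    refine ⟨_, rs, rfl, fun b hb => hkerc.ge (Ideal.subset_span hb), ?_⟩
    rw [Ideal.ofList_append, hKγ]
    exact sup_eq_left.2 hfK
  obtain ⟨g, hglen, hgK, hgspan⟩ := Nat.find_spec hex
  have hdrop : ∀ l₁ b l₂, g = l₁ ++ b :: l₂ →
      γ b ∉ Ideal.ofList (l₁.map γ ++ l₂.map γ ++ f.map γ) := by
    rintro l₁ b l₂ rfl hb
    refine Nat.find_min hex (m := (l₁ ++ l₂).length) (by rw [← hglen]; simp) ⟨l₁ ++ l₂, rfl, fun c hc => hgK c ?_, ?_⟩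
    · rcases List.mem_append.1 hc with hc | hc
      · exact List.mem_append_left _ hc
      · exact List.mem_append_right _ (List.mem_cons_of_mem _ hc)
    · rw [← hgspan, List.map_append, List.map_append, List.map_cons,
        show l₁.map γ ++ γ b :: l₂.map γ ++ f.map γ = l₁.map γ ++ γ b :: (l₂.map γ ++ f.map γ) by simp,
        ofList_perm (List.perm_middle (a := γ b) (l₁ := l₁.map γ) (l₂ := l₂.map γ ++ f.map γ)),
        Ideal.ofList_cons, ← List.append_assoc, right_eq_sup, Ideal.span_singleton_le_iff_mem]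
      exact hb
  have hH : ∀ w ∈ Ideal.ofList (f.map γ),
      w ∈ IsLocalRing.maximalIdeal (X.presheaf.stalk (i (j z))) * K.map γ →
      w ∈ IsLocalRing.maximalIdeal (X.presheaf.stalk (i (j z))) * Ideal.ofList (f.map γ) := by
    intro w hwJ hwK
    obtain ⟨U', ρ, hzU', hρ⟩ := hsplit z
    rw [← hJst] at hwJ ⊢
    exact mem_maximal_mul_of_split i j hφ₁ z U' hzU' ρ hρ w hwJ (hcomap.symm ▸ hwK)
  have hirr : Irred (g.map γ ++ f.map γ) := by
    refine irred_append (g.map γ) (f.map γ) hfirr (hgspan ▸ hH) ?_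
    intro l₁ b l₂ h
    obtain ⟨l₁', r, rfl, rfl, hr⟩ := List.map_eq_append_iff.1 h
    obtain ⟨b', l₂', rfl, rfl, rfl⟩ := List.map_eq_cons_iff.1 hr
    exact hdrop l₁' b' l₂' rfl
  have hglenrs : g.length + f.length = rs.length := by
    have h1 := length_le_of_irred hirr (hKγ.trans hgspan.symm)
    have h2 := length_le_of_irred hrsirr (hgspan.trans hKγ.symm)
    simp only [List.length_append, List.length_map] at h1 h2
    omega
  -- shrink so that `g ++ f` generates
  obtain ⟨a, hza, hgen⟩ := exists_basicOpen_generate U (i (j z)) hzU K (by rw [show K = _ from hkerc]; exact ⟨rs.toFinset, by simp [Ideal.ofList]⟩)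
    (g ++ f) (by
      rw [Ideal.ofList_append]
      exact sup_le (Ideal.span_le.2 hgK) ((le_of_eq hkeri.symm).trans hIK))
    (by rw [List.map_append]; exact hgspan.symm)
  let D : X.affineOpens := X.affineBasicOpen a
  have hDU : D.1 ≤ U.1 := X.basicOpen_le a
  obtain ⟨hclDi, hfD, hkerDi⟩ := KoszComp.chart_restrict i U D hDU hcli hf hkeri
  obtain ⟨hclDc, hrsD, hkerDc⟩ := KoszComp.chart_restrict (j ≫ i) U D hDU hclc hrs hkerc
  let res := (X.presheaf.map (homOfLE hDU).op).hom
  have hKD : RingHom.ker ((j ≫ i).app D.1).hom = Ideal.ofList ((g ++ f).map res) := by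
    exact hkerDc.trans ((Ideal.map_ofList _ rs).symm.trans ((congrArg (Ideal.map res) hkerc.symm).trans hgen))
  have hseqD : RegImm.Kind.koszul.Seq Γ(X, D.1) ((g ++ f).map res) := by
    refine seq_descend hk _ fun m hm => ?_
    obtain ⟨⟨y, hyD⟩, hy⟩ : ∃ y : D.1, (D.2.primeIdealOf y).asIdeal = m := by
      have hy : D.2.fromSpec ⟨m, hm.isPrime⟩ ∈ D.1 := D.2.range_fromSpec.le ⟨_, rfl⟩
      exact ⟨⟨_, hy⟩, congrArg PrimeSpectrum.asIdeal (D.2.fromSpec.isOpenEmbedding.injective
        (D.2.fromSpec_primeIdealOf ⟨_, hy⟩))⟩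
    let γy := (X.presheaf.germ D.1 y hyD).hom
    letI : Algebra Γ(X, D.1) (X.presheaf.stalk y) := γy.toAlgebra
    haveI : IsLocalization.AtPrime (X.presheaf.stalk y) (D.2.primeIdealOf ⟨y, hyD⟩).asIdeal :=
      D.2.isLocalization_stalk ⟨y, hyD⟩
    haveI : Module.Flat Γ(X, D.1) (X.presheaf.stalk y) := flat_germ D y hyD
    refine ⟨X.presheaf.stalk y, inferInstance, inferInstance, inferInstance, ?_, ?_⟩
    · rw [← hy, IsLocalization.AtPrime.map_eq_maximalIdeal (D.2.primeIdealOf ⟨y, hyD⟩).asIdeal (X.presheaf.stalk y)]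
      exact (IsLocalRing.maximalIdeal.isMaximal _).ne_top
    change RegImm.Kind.koszul.Seq _ (((g ++ f).map res).map γy)
    by_cases htop : Ideal.ofList (((g ++ f).map res).map γy) = ⊤
    · exact seq_of_eq_top hk htop
    have heq : Ideal.ofList ((rs.map res).map γy) = Ideal.ofList (((g ++ f).map res).map γy) := by
      rw [← Ideal.map_ofList γy, ← Ideal.map_ofList γy, ← hKD, hkerDc]
    have hseq : RegImm.Kind.koszul.Seq _ ((rs.map res).map γy) := seq_flat' hk _ hrsD
    have hi1 := irred_of_quasi (quasi_of_seq hk hseq) (heq ▸ htop)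
    refine seq_change hk hseq (irred_of_min fun l hl => ?_) heq ?_
    · have := length_le_of_irred hi1 (hl.trans heq.symm)
      simp only [List.length_map, List.length_append] at this ⊢
      omega
    · simp only [List.length_map, List.length_append]
      omega
  -- descend to `Y`
  obtain ⟨hsurj, hW⟩ := H17.app_surjective_of_restrict i D.2
  let W : Y.affineOpens := ⟨i ⁻¹ᵁ D.1, hW⟩
  have hq : LCI.IsKoszulRegularSeq Γ(Y, W.1) ((g.map res).map (i.app D.1).hom) :=
    isKoszulRegularSeq_of_append (i.app D.1).hom hsurj hfD hkerDi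
      (by have := hseqD; rw [List.map_append] at this; exact this)
  refine ⟨W, hza, IsZariskiLocalAtTarget.restrict (P := @IsClosedImmersion) inferInstance W.1,
    (g.map res).map (i.app D.1).hom, hq, ?_⟩
  have hcm : RingHom.ker ((j ≫ i).app D.1).hom = (RingHom.ker (j.app W.1).hom).comap (i.app D.1).hom := by
    rw [RingHom.comap_ker, Scheme.Hom.comp_app]
    rfl
  have := congrArg (Ideal.map (i.app D.1).hom) hcm
  rw [Ideal.map_comap_of_surjective _ hsurj] at this
  have h0 : (Ideal.ofList (f.map res)).map (i.app D.1).hom = ⊥ := by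
    rw [Ideal.map_eq_bot_iff_le_ker, hkerDi]
  rw [← this, hKD, List.map_append, Ideal.ofList_append, Ideal.map_sup, h0, sup_bot_eq, Ideal.map_ofList]

end Groth.Agent.H17.KoszCancel
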