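import Groth.Agent.H17.Conormal.Left
import Groth.Agent.H17.StalkTransfer
import Mathlib

/-!
# Split conormal sequences: relations among equations of the larger immersion
-/

set_option autoImplicit false
set_option linter.style.haveILetI false
universe u

open CategoryTheory CategoryTheory.Limits AlgebraicGeometry TopologicalSpace TensorProduct

namespace Groth.Agent.H17.KoszCancel

open Groth.Agent.H06Mod Groth.Agent.H29Omega Groth.Agent.H17.Conormal

attribute [local instance] Groth.Agent.H06Mod.stalkAlgebra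

variable {Z Y X : Scheme.{u}}

/-- A locally split morphism reflects membership in `𝔪 • M` on stalks. -/
theorem mem_smul_of_split_aux {M N : Z.Modules} (φ : M ⟶ N) (U : Z.Opens) (x : (U : Scheme.{u}))
    (ρ : (Scheme.Modules.restrictFunctor U.ι).obj N ⟶ (Scheme.Modules.restrictFunctor U.ι).obj M)
    (h : (Scheme.Modules.restrictFunctor U.ι).map φ ≫ ρ = 𝟙 _) (v : M.presheaf.stalk (U.ι x))
    (hv : stalkLin φ (U.ι x) v ∈ IsLocalRing.maximalIdeal (Z.presheaf.stalk (U.ι x)) •
      (⊤ : Submodule (Z.presheaf.stalk (U.ι x)) (N.presheaf.stalk (U.ι x)))) :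
    v ∈ IsLocalRing.maximalIdeal (Z.presheaf.stalk (U.ι x)) •
      (⊤ : Submodule (Z.presheaf.stalk (U.ι x)) (M.presheaf.stalk (U.ι x))) := by
  let α := Scheme.Modules.restrictFunctorIsoPullback U.ι
  let ρ' : (Scheme.Modules.pullback U.ι).obj N ⟶ (Scheme.Modules.pullback U.ι).obj M :=
    α.inv.app N ≫ ρ ≫ α.hom.app M
  have h' : (Scheme.Modules.pullback U.ι).map φ ≫ ρ' = 𝟙 _ := by
    show (Scheme.Modules.pullback U.ι).map φ ≫ α.inv.app N ≫ ρ ≫ α.hom.app M = 𝟙 _
    rw [← Category.assoc, α.inv.naturality, Category.assoc, ← Category.assoc _ ρ, h, Category.id_comp,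
      ← NatTrans.comp_app, Iso.inv_hom_id]
    rfl
  have hb := H17.StalkTransfer.pullStalk_bijective U.ι M x
  have key : ∀ w ∈ IsLocalRing.maximalIdeal (Z.presheaf.stalk (U.ι x)) •
      (⊤ : Submodule (Z.presheaf.stalk (U.ι x)) (N.presheaf.stalk (U.ι x))),
      stalkLin ρ' x (pullStalk U.ι N x w) ∈ IsLocalRing.maximalIdeal ((U : Scheme.{u}).presheaf.stalk x) •
        (⊤ : Submodule ((U : Scheme.{u}).presheaf.stalk x) _) := by
    intro w hw
    refine Submodule.smul_induction_on hw (fun r hr n _ => ?_) (fun a b ha hb => ?_)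
    · rw [pullStalk_smul U.ι N x r n, map_smul]
      refine Submodule.smul_mem_smul ?_ Submodule.mem_top
      rw [IsLocalRing.mem_maximalIdeal] at hr ⊢
      haveI : IsLocalHom (U.ι.stalkMap x).hom := inferInstance
      exact fun hu => hr (IsLocalHom.map_nonunit (f := (U.ι.stalkMap x).hom) r hu)
    · rw [map_add, map_add]; exact add_mem ha hb
  have h1 : pullStalk U.ι M x v ∈ IsLocalRing.maximalIdeal ((U : Scheme.{u}).presheaf.stalk x) •
      (⊤ : Submodule ((U : Scheme.{u}).presheaf.stalk x) _) := by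
    have h2 := key _ hv
    rw [show pullStalk U.ι N x (stalkLin φ (U.ι x) v) = stalkLin ((Scheme.Modules.pullback U.ι).map φ) x (pullStalk U.ι M x v)
      from (pullStalk_naturality U.ι M x φ v).symm, ← stalkLin_comp, h'] at h2
    convert h2 using 1
    obtain ⟨W, hW, s, hs⟩ := ((Scheme.Modules.pullback U.ι).obj M).presheaf.exists_germ_eq (pullStalk U.ι M x v)
    rw [← hs, stalkLin_germ]
    rfl
  have back : ∀ w ∈ IsLocalRing.maximalIdeal ((U : Scheme.{u}).presheaf.stalk x) •
      (⊤ : Submodule ((U : Scheme.{u}).presheaf.stalk x) (((Scheme.Modules.pullback U.ι).obj M).presheaf.stalk x)),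
      ∃ v' ∈ IsLocalRing.maximalIdeal (Z.presheaf.stalk (U.ι x)) •
        (⊤ : Submodule (Z.presheaf.stalk (U.ι x)) (M.presheaf.stalk (U.ι x))), pullStalk U.ι M x v' = w := by
    intro w hw
    refine Submodule.smul_induction_on hw (fun r hr n _ => ?_) (fun a b ha hb => ?_)
    · obtain ⟨r', rfl⟩ := (ConcreteCategory.bijective_of_isIso (U.ι.stalkMap x)).2 r
      obtain ⟨n', rfl⟩ := hb.2 n
      refine ⟨r' • n', Submodule.smul_mem_smul ?_ Submodule.mem_top, pullStalk_smul U.ι M x r' n'⟩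
      rw [IsLocalRing.mem_maximalIdeal] at hr ⊢
      exact fun hu => hr (hu.map (U.ι.stalkMap x).hom)
    · obtain ⟨a', ha', rfl⟩ := ha
      obtain ⟨b', hb', rfl⟩ := hb
      exact ⟨a' + b', add_mem ha' hb', map_add _ _ _⟩
  obtain ⟨v', hv', hveq⟩ := back _ h1
  rwa [hb.1 hveq] at hv'

theorem mem_smul_of_split {M N : Z.Modules} (φ : M ⟶ N) (z : Z) (U : Z.Opens) (hz : z ∈ U)
    (ρ : (Scheme.Modules.restrictFunctor U.ι).obj N ⟶ (Scheme.Modules.restrictFunctor U.ι).obj M)
    (h : (Scheme.Modules.restrictFunctor U.ι).map φ ≫ ρ = 𝟙 _) (v : M.presheaf.stalk z)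
    (hv : stalkLin φ z v ∈ IsLocalRing.maximalIdeal (Z.presheaf.stalk z) •
      (⊤ : Submodule (Z.presheaf.stalk z) (N.presheaf.stalk z))) :
    v ∈ IsLocalRing.maximalIdeal (Z.presheaf.stalk z) •
      (⊤ : Submodule (Z.presheaf.stalk z) (M.presheaf.stalk z)) :=
  mem_smul_of_split_aux φ U ⟨z, hz⟩ ρ h v hv

/-- If the conormal map is split, an equation of `f` lying in `𝔪 · I(j ≫ f)` lies in `𝔪 · I(f)`. -/
theorem mem_maximal_mul_of_split (f : Y ⟶ X) [IsClosedImmersion f] (j : Z ⟶ Y) [IsClosedImmersion j]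
    {φ₁ : (Scheme.Modules.pullback j).obj (Omega.conormal f) ⟶ Omega.conormal (j ≫ f)}
    (hφ₁ : OmegaSh.IsConormalMap (j ≫ f) f (𝟙 X) j φ₁) (z : Z) (U : Z.Opens) (hz : z ∈ U)
    (ρ : (Scheme.Modules.restrictFunctor U.ι).obj (Omega.conormal (j ≫ f)) ⟶
      (Scheme.Modules.restrictFunctor U.ι).obj ((Scheme.Modules.pullback j).obj (Omega.conormal f)))
    (hρ : (Scheme.Modules.restrictFunctor U.ι).map φ₁ ≫ ρ = 𝟙 _)
    (a : X.presheaf.stalk (f (j z))) (ha : a ∈ RingHom.ker (f.stalkMap (j z)).hom)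
    (ham : a ∈ IsLocalRing.maximalIdeal (X.presheaf.stalk (f (j z))) *
      (RingHom.ker (j.stalkMap z).hom).comap (f.stalkMap (j z)).hom) :
    a ∈ IsLocalRing.maximalIdeal (X.presheaf.stalk (f (j z))) * RingHom.ker (f.stalkMap (j z)).hom := by
  let A := X.presheaf.stalk (f (j z))
  let q : A →+* Y.presheaf.stalk (j z) := (f.stalkMap (j z)).hom
  let J : Ideal A := RingHom.ker q
  let mA := IsLocalRing.maximalIdeal A
  haveI : IsLocalHom q := inferInstanceAs (IsLocalHom (f.stalkMap (j z)).hom)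
  haveI : IsLocalHom (j.stalkMap z).hom := inferInstance
  let π : A →+* Z.presheaf.stalk z := (j.stalkMap z).hom.comp q
  haveI : IsLocalHom π := RingHom.isLocalHom_comp _ _
  let N := ((Scheme.Modules.pullback j).obj (Omega.conormal f)).presheaf.stalk z
  let gen : J →+ N := (pullStalk j (Omega.conormal f) z).hom.comp (cgen f (j z))
  have hgen : ∀ (r : A) b, gen (r • b) = π r • gen b := fun r b => by
    show pullStalk j (Omega.conormal f) z (cgen f (j z) (r • b)) = _
    rw [cgen_smul]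
    exact pullStalk_smul j (Omega.conormal f) z _ _
  have hsurj : ∀ v : N, ∃ b, gen b = v := by
    intro v
    obtain ⟨t, rfl⟩ := (pullStalkEquiv j (Omega.conormal f) z).surjective v
    induction t using TensorProduct.induction_on with
    | zero => exact ⟨0, by rw [map_zero, map_zero]⟩
    | add p q' hp hq =>
      obtain ⟨p', hp'⟩ := hp
      obtain ⟨q'', hq''⟩ := hq
      exact ⟨p' + q'', by rw [map_add, hp', hq'', map_add]⟩
    | tmul r m =>
      obtain ⟨b, rfl⟩ := exists_cgen_eq f (j z) m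
      obtain ⟨r₁, rfl⟩ := j.stalkMap_surjective z r
      obtain ⟨r₂, rfl⟩ := f.stalkMap_surjective (j z) r₁
      refine ⟨r₂ • b, (hgen r₂ b).trans ?_⟩
      show _ = pullStalkLin j (Omega.conormal f) z (_ ⊗ₜ cgen f (j z) b)
      rw [pullStalkLin_tmul]
      rfl
  have hπsurj : Function.Surjective π := (j.stalkMap_surjective z).comp (f.stalkMap_surjective (j z))
  -- the image lies in `𝔪 • conormal`
  have hγ : ∀ x : A, (baseStalkMap f (j ≫ f) (𝟙 X) j hφ₁.1 z).hom x = x := by
    intro x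
    obtain ⟨W, hW, s, hs⟩ := X.presheaf.exists_germ_eq x
    rw [← hs, baseStalkMap_germ hφ₁.1 z W hW W le_rfl hW s,
      show (𝟙 X : X ⟶ X).appLE W W le_rfl = 𝟙 _ by
        simp only [Scheme.Hom.appLE, Scheme.Hom.id_app]
        exact (Category.id_comp _).trans (X.presheaf.map_id _)]
    rfl
  have hK : (RingHom.ker (j.stalkMap z).hom).comap q = RingHom.ker ((j ≫ f).stalkMap z).hom := by
    rw [RingHom.comap_ker, Scheme.Hom.stalkMap_comp]
    rfl
  have hsm : ∀ x ∈ IsLocalRing.maximalIdeal (X.presheaf.stalk ((j ≫ f) z)) * RingHom.ker ((j ≫ f).stalkMap z).hom, ∀ hx : x ∈ RingHom.ker ((j ≫ f).stalkMap z).hom,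
      cgen (j ≫ f) z ⟨x, hx⟩ ∈ IsLocalRing.maximalIdeal (Z.presheaf.stalk z) •
        (⊤ : Submodule (Z.presheaf.stalk z) ((Omega.conormal (j ≫ f)).presheaf.stalk z)) := by
    intro x hxm hx
    have main : ∃ hx' : x ∈ RingHom.ker ((j ≫ f).stalkMap z).hom,
        cgen (j ≫ f) z ⟨x, hx'⟩ ∈ IsLocalRing.maximalIdeal (Z.presheaf.stalk z) •
          (⊤ : Submodule (Z.presheaf.stalk z) ((Omega.conormal (j ≫ f)).presheaf.stalk z)) := by
      clear hx
      refine Submodule.mul_induction_on hxm (fun r hr k hk => ⟨Ideal.mul_mem_left _ _ hk, ?_⟩) (fun x y hx hy => ?_)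
      · rw [show (⟨r * k, Ideal.mul_mem_left _ _ hk⟩ : RingHom.ker ((j ≫ f).stalkMap z).hom) = r • ⟨k, hk⟩ from
          Subtype.ext rfl, cgen_smul]
        refine Submodule.smul_mem_smul ?_ Submodule.mem_top
        rw [IsLocalRing.mem_maximalIdeal] at hr ⊢
        haveI : IsLocalHom ((j ≫ f).stalkMap z).hom := inferInstance
        exact fun hu => hr (IsLocalHom.map_nonunit (f := ((j ≫ f).stalkMap z).hom) r hu)
      · obtain ⟨hx1, hx2⟩ := hx
        obtain ⟨hy1, hy2⟩ := hy
        refine ⟨add_mem hx1 hy1, ?_⟩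
        rw [show (⟨x + y, add_mem hx1 hy1⟩ : RingHom.ker ((j ≫ f).stalkMap z).hom) = ⟨x, hx1⟩ + ⟨y, hy1⟩ from
          Subtype.ext rfl, map_add]
        exact add_mem hx2 hy2
    exact main.2
  have hφ : stalkLin φ₁ z (gen ⟨a, ha⟩) ∈ IsLocalRing.maximalIdeal (Z.presheaf.stalk z) •
      (⊤ : Submodule (Z.presheaf.stalk z) ((Omega.conormal (j ≫ f)).presheaf.stalk z)) := by
    rw [show stalkLin φ₁ z (gen ⟨a, ha⟩) = _ from stalkLin_conormalMap hφ₁ z ⟨a, ha⟩]
    refine hsm _ ?_ _
    rw [hγ, ← hK]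
    exact ham
  have hv := mem_smul_of_split φ₁ z U hz ρ hρ _ hφ
  -- the class modulo `𝔪`
  let M := (J ⧸ (mA • (⊤ : Submodule A J)))
  let eY : (A ⧸ J) ≃+* Y.presheaf.stalk (j z) := RingHom.quotientKerEquivOfSurjective (f.stalkMap_surjective (j z))
  let eZ : (A ⧸ RingHom.ker π) ≃+* Z.presheaf.stalk z := RingHom.quotientKerEquivOfSurjective hπsurj
  have hJm : J ≤ mA := IsLocalRing.le_maximalIdeal (RingHom.ker_ne_top q)
  have hπm : RingHom.ker π ≤ mA := IsLocalRing.le_maximalIdeal (RingHom.ker_ne_top π)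
  let rY : Y.presheaf.stalk (j z) →+* A ⧸ mA := (Ideal.Quotient.factor hJm).comp eY.symm.toRingHom
  let rZ : Z.presheaf.stalk z →+* A ⧸ mA := (Ideal.Quotient.factor hπm).comp eZ.symm.toRingHom
  have hrY : ∀ r : A, rY (q r) = Ideal.Quotient.mk mA r := fun r => by
    show Ideal.Quotient.factor hJm (eY.symm (q r)) = _
    rw [show eY.symm (q r) = Ideal.Quotient.mk J r by rw [RingEquiv.symm_apply_eq]; rfl, Ideal.Quotient.factor_mk]
  have hrZ : ∀ r : A, rZ (π r) = Ideal.Quotient.mk mA r := fun r => by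
    show Ideal.Quotient.factor hπm (eZ.symm (π r)) = _
    rw [show eZ.symm (π r) = Ideal.Quotient.mk _ r by rw [RingEquiv.symm_apply_eq]; rfl, Ideal.Quotient.factor_mk]
  letI : Module (A ⧸ mA) M := inferInstance
  letI : Module (Y.presheaf.stalk (j z)) M := Module.compHom M rY
  letI : Module (Z.presheaf.stalk z) M := Module.compHom M rZ
  haveI : IsScalarTower (Y.presheaf.stalk (j z)) (Z.presheaf.stalk z) M := by
    refine .of_algebraMap_smul fun r m => ?_
    obtain ⟨r', rfl⟩ := f.stalkMap_surjective (j z) r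
    show rZ (π r') • m = rY (q r') • m
    rw [hrY, hrZ]
  let S : Submodule A J := mA • (⊤ : Submodule A J)
  let mk : J →+ M :=
    { toFun := fun b => Submodule.Quotient.mk b, map_zero' := rfl, map_add' := fun _ _ => rfl }
  obtain ⟨g, hg⟩ := exists_lift_cgen f (j z) (N := M) mk (fun r b => by
    show mk (r • b) = rY (q r) • mk b
    rw [hrY]; rfl)
  let G : N →ₗ[Z.presheaf.stalk z] M :=
    (g.liftBaseChange (Z.presheaf.stalk z)).comp (pullStalkEquiv j (Omega.conormal f) z).symm.toLinearMap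
  have hG : ∀ b, G (gen b) = Submodule.Quotient.mk b := fun b => by
    have : gen b = pullStalkEquiv j (Omega.conormal f) z (1 ⊗ₜ cgen f (j z) b) := by
      show pullStalk j (Omega.conormal f) z (cgen f (j z) b) = pullStalkLin j (Omega.conormal f) z (1 ⊗ₜ _)
      rw [pullStalkLin_tmul, one_smul]
    show g.liftBaseChange _ ((pullStalkEquiv j (Omega.conormal f) z).symm (gen b)) = _
    rw [this, LinearEquiv.symm_apply_apply, LinearMap.liftBaseChange_tmul, one_smul]
    exact hg b
  have hzero : ∀ v ∈ IsLocalRing.maximalIdeal (Z.presheaf.stalk z) • (⊤ : Submodule (Z.presheaf.stalk z) N), G v = 0 := by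
    intro v hv
    refine Submodule.smul_induction_on hv (fun r hr n _ => ?_) (fun p q hp hq => by rw [map_add, hp, hq, add_zero])
    rw [map_smul]
    obtain ⟨r', rfl⟩ := hπsurj r
    show rZ (π r') • G n = 0
    rw [hrZ, Ideal.Quotient.eq_zero_iff_mem.2 ((IsLocalRing.mem_maximalIdeal _).2 fun hu =>
      (IsLocalRing.mem_maximalIdeal _).1 hr (hu.map π)), zero_smul]
  have h0 := hzero _ hv
  rw [hG, Submodule.Quotient.mk_eq_zero] at h0
  have : ∀ b ∈ mA • (⊤ : Submodule A J), (b : A) ∈ mA * J := fun b hb => by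
    refine Submodule.smul_induction_on hb (fun r hr n _ => ?_) (fun p q hp hq => ?_)
    · exact Ideal.mul_mem_mul hr n.2
    · exact add_mem hp hq
  exact this _ h0

end Groth.Agent.H17.KoszCancel
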